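import Mathlib

/-!
Generalised elements in ind-objects of an abelian category; the essential image of `C`.
-/

set_option autoImplicit false
set_option linter.style.haveILetI false
set_option linter.unusedSectionVars false
set_option backward.isDefEq.respectTransparency false
set_option backward.isDefEq.respectTransparency.types false

universe v

open CategoryTheory Category Limits

namespace Groth.Agent.IndCofLib

variable {C : Type v} [SmallCategory C] [Abelian C]

local notation "yI" => (Ind.yoneda : C ⥤ Ind C)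

instance : PreservesFiniteLimits (yI) := PreservesLimitsOfSize.preservesFiniteLimits _

instance : (yI).Additive := Functor.additive_of_preserves_binary_products _

/-- The objects of `Ind C` coming from `C`. -/
abbrev InC (A : Ind C) : Prop := (yI).essImage A

theorem inC_kernel {A B : Ind C} (f : A ⟶ B) (hA : InC A) (hB : InC B) : InC (kernel f) := by
  obtain ⟨X, ⟨e⟩⟩ := hA
  obtain ⟨Y, ⟨e'⟩⟩ := hB
  exact ⟨kernel ((yI).preimage (e.hom ≫ f ≫ e'.inv)), ⟨PreservesKernel.iso (yI) _ ≪≫
    kernel.mapIso _ f e e' (by simp)⟩⟩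

theorem inC_cokernel {A B : Ind C} (f : A ⟶ B) (hA : InC A) (hB : InC B) : InC (cokernel f) := by
  obtain ⟨X, ⟨e⟩⟩ := hA
  obtain ⟨Y, ⟨e'⟩⟩ := hB
  exact ⟨cokernel ((yI).preimage (e.hom ≫ f ≫ e'.inv)), ⟨PreservesCokernel.iso (yI) _ ≪≫
    cokernel.mapIso _ f e e' (by simp)⟩⟩

theorem inC_imageSubobject {A B : Ind C} (f : A ⟶ B) (hA : InC A) (hB : InC B) :
    InC ((imageSubobject f : Subobject B) : Ind C) :=
  Functor.essImage.ofIso ((Abelian.imageIsoImage f) ≪≫ (imageSubobjectIso f).symm)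
    (inC_kernel _ hB (inC_cokernel f hA hB))

/-- Morphisms out of an object of `C` correspond to sections. -/
noncomputable def homEquivSections (X : C) (A : Ind C) :
    ((yI).obj X ⟶ A) ≃ ((Ind.inclusion C).obj A).obj (Opposite.op X) :=
  Ind.inclusion.fullyFaithful.homEquiv.trans
    (((Ind.yonedaCompInclusion.app X).homFromEquiv).trans yonedaEquiv)

theorem homEquivSections_comp (X : C) {A A' : Ind C} (g : (yI).obj X ⟶ A) (f : A ⟶ A') :
    homEquivSections X A' (g ≫ f) =
      ((Ind.inclusion C).map f).app (Opposite.op X) (homEquivSections X A g) := by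
  simp only [homEquivSections, Equiv.trans_apply]
  rw [← yonedaEquiv_comp]
  congr 1
  simp [Iso.homFromEquiv]

/-- An epimorphism onto an object of `C` restricts to an epimorphism from an object of `C`. -/
theorem exists_epi {P : Ind C} {X : C} (q : P ⟶ (yI).obj X) [Epi q] :
    ∃ (X' : C) (π : X' ⟶ X) (g : (yI).obj X' ⟶ P), Epi π ∧ g ≫ q = (yI).map π := by
  let F := P.presentation.F
  let e := Ind.colimitPresentationCompYoneda P
  let leg : ∀ i, (yI).obj (F.obj i) ⟶ P := fun i => colimit.ι (F ⋙ yI) i ≫ e.hom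
  let qi : ∀ i, F.obj i ⟶ X := fun i => (yI).preimage (leg i ≫ q)
  have hw : ∀ {i j} (f : i ⟶ j), F.map f ≫ qi j = qi i := fun {i j} f => (yI).map_injective (by
    simp only [Functor.map_comp, qi, Functor.map_preimage, leg, ← assoc]
    rw [show (yI).map (F.map f) ≫ colimit.ι (F ⋙ yI) j = colimit.ι (F ⋙ yI) i from
      colimit.w (F ⋙ yI) f])
  let K : P.presentation.I ⥤ C :=
    { obj := fun i => cokernel (qi i)
      map := fun {i j} f => cokernel.map (qi i) (qi j) (F.map f) (𝟙 X) (by rw [comp_id, hw f])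
      map_id := fun i => by ext; simp
      map_comp := fun f g => by ext; simp }
  let Kc := colimit (K ⋙ yI)
  let i₀ : P.presentation.I := IsFiltered.nonempty.some
  let η : ∀ i, (yI).obj X ⟶ Kc := fun i => (yI).map (cokernel.π (qi i)) ≫ colimit.ι (K ⋙ yI) i
  have hη : ∀ {i j} (f : i ⟶ j), η i = η j := fun {i j} f => by
    simp only [η]
    rw [← colimit.w (K ⋙ yI) f, Functor.comp_map, ← assoc, ← Functor.map_comp]
    simp [K]
  have h0 : η i₀ = 0 := by
    rw [← cancel_epi q, ← cancel_epi e.hom, comp_zero, comp_zero]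
    refine colimit.hom_ext fun i => ?_
    rw [comp_zero, hη (IsFiltered.leftToMax i₀ i), ← hη (IsFiltered.rightToMax i₀ i), ← assoc, ← assoc,
      show (colimit.ι (F ⋙ yI) i ≫ e.hom) ≫ q = (yI).map (qi i) from ((yI).map_preimage _).symm]
    simp only [η, ← assoc, ← Functor.map_comp, cokernel.condition, Functor.map_zero, zero_comp]
  let W := (Ind.inclusion C ⋙ (evaluation _ _).obj (Opposite.op X))
  have hcol := isColimitOfPreserves W (colimit.isColimit (K ⋙ yI))
  have hval : ∀ i (g : (yI).obj X ⟶ (yI).obj (K.obj i)),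
      homEquivSections X Kc (g ≫ colimit.ι (K ⋙ yI) i) =
        (W.mapCocone (colimit.cocone (K ⋙ yI))).ι.app i (homEquivSections X _ g) :=
    fun i g => homEquivSections_comp X g _
  obtain ⟨j, f, g, hfg⟩ := (Types.FilteredColimit.isColimit_eq_iff _ hcol
    (i := i₀) (j := i₀) (xi := homEquivSections X _ ((yI).map (cokernel.π (qi i₀))))
    (xj := homEquivSections X _ (0 : (yI).obj X ⟶ (yI).obj (K.obj i₀)))).1
    (((hval i₀ _).symm.trans (congrArg (homEquivSections X Kc) (h0.trans zero_comp.symm))).trans (hval i₀ _))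
  have hf : ((yI).map (cokernel.π (qi i₀))) ≫ (yI).map (K.map f) = (0 : (yI).obj X ⟶ _) ≫ (yI).map (K.map g) := by
    apply (homEquivSections X _).injective
    rw [homEquivSections_comp, homEquivSections_comp]
    exact hfg
  rw [zero_comp, ← Functor.map_comp] at hf
  have h1 : cokernel.π (qi j) = 0 := by
    have := (yI).map_injective (hf.trans ((yI).map_zero X (K.obj j)).symm)
    simpa [K] using this
  exact ⟨F.obj j, qi j, leg j, Preadditive.epi_of_cokernel_zero h1, ((yI).map_preimage _).symm⟩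

/-- Generalised elements lift along epimorphisms, after a refinement. -/
theorem exists_lift {P Q : Ind C} (q : P ⟶ Q) [Epi q] {X : C} (g : (yI).obj X ⟶ Q) :
    ∃ (X' : C) (π : X' ⟶ X) (h : (yI).obj X' ⟶ P), Epi π ∧ h ≫ q = (yI).map π ≫ g := by
  obtain ⟨X', π, h, hπ, e⟩ := exists_epi (pullback.snd q g)
  exact ⟨X', π, h ≫ pullback.fst q g, hπ, by rw [assoc, pullback.condition, ← assoc, e]⟩

theorem hom_ext_gen {A B : Ind C} (f g : A ⟶ B) (h : ∀ (X : C) (x : (yI).obj X ⟶ A), x ≫ f = x ≫ g) :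
    f = g := by
  refine Ind.isSeparating_range_yoneda f g fun G hG x => ?_
  obtain ⟨X⟩ := hG
  exact h X x

/-- A morphism is epi as soon as every generalised element of the target lifts after refinement. -/
theorem epi_of_lifts {P Q : Ind C} (f : P ⟶ Q)
    (h : ∀ (X : C) (g : (yI).obj X ⟶ Q), ∃ (X' : C) (π : X' ⟶ X) (y : (yI).obj X' ⟶ P),
      Epi π ∧ y ≫ f = (yI).map π ≫ g) : Epi f := by
  refine Preadditive.epi_of_cokernel_zero (hom_ext_gen _ _ fun X g => ?_)
  obtain ⟨X', π, y, hπ, e⟩ := h X g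
  rw [← cancel_epi ((yI).map π), ← assoc, ← e, assoc, cokernel.condition, comp_zero, comp_zero, comp_zero]

/-- A generalised element killed by the second map of an exact sequence comes from the first term. -/
theorem lift_of_exact {S : ShortComplex (Ind C)} (hS : S.Exact) {X : C} (g : (yI).obj X ⟶ S.X₂)
    (hg : g ≫ S.g = 0) : ∃ (X' : C) (π : X' ⟶ X) (y : (yI).obj X' ⟶ S.X₁),
      Epi π ∧ y ≫ S.f = (yI).map π ≫ g := by
  haveI := hS.epi_kernelLift
  obtain ⟨X', π, y, hπ, e⟩ := exists_lift (kernel.lift S.g S.f S.zero) (kernel.lift S.g g hg)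
  refine ⟨X', π, y, hπ, ?_⟩
  have := congrArg (· ≫ kernel.ι S.g) e
  simpa using this

theorem exact_of_lifts {S : ShortComplex (Ind C)}
    (h : ∀ (X : C) (g : (yI).obj X ⟶ S.X₂), g ≫ S.g = 0 →
      ∃ (X' : C) (π : X' ⟶ X) (y : (yI).obj X' ⟶ S.X₁), Epi π ∧ y ≫ S.f = (yI).map π ≫ g) : S.Exact := by
  rw [S.exact_iff_epi_kernel_lift]
  refine epi_of_lifts _ fun X g => ?_
  obtain ⟨X', π, y, hπ, e⟩ := h X (g ≫ kernel.ι S.g) (by simp)
  exact ⟨X', π, y, hπ, by rw [← cancel_mono (kernel.ι S.g)]; simpa using e⟩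

/-- Elements killed by the cokernel of `f` come from `f`, after refinement. -/
theorem lift_of_cokernel {P Q : Ind C} (f : P ⟶ Q) {X : C} (g : (yI).obj X ⟶ Q)
    (hg : g ≫ cokernel.π f = 0) : ∃ (X' : C) (π : X' ⟶ X) (y : (yI).obj X' ⟶ P),
      Epi π ∧ y ≫ f = (yI).map π ≫ g :=
  lift_of_exact (S := ShortComplex.mk f (cokernel.π f) (cokernel.condition f))
    (ShortComplex.exact_cokernel f) g hg

theorem imageSubobject_le_of_lifts {P Q : Ind C} (f : P ⟶ Q) (S : Subobject Q)
    (h : ∀ (X : C) (g : (yI).obj X ⟶ P), ∃ (X' : C) (π : X' ⟶ X), Epi π ∧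
      ((yI).map π ≫ g ≫ f) ≫ cokernel.π S.arrow = 0) : imageSubobject f ≤ S := by
  have h0 : f ≫ cokernel.π S.arrow = 0 := hom_ext_gen _ _ fun X g => by
    obtain ⟨X', π, hπ, e⟩ := h X g
    rw [← cancel_epi ((yI).map π), comp_zero, comp_zero]
    simpa only [assoc] using e
  exact imageSubobject_le f (Abelian.monoLift S.arrow f h0) (Abelian.monoLift_comp _ _ _)

theorem le_of_lifts {Q : Ind C} (S S' : Subobject Q)
    (h : ∀ (X : C) (g : (yI).obj X ⟶ (S : Ind C)), ∃ (X' : C) (π : X' ⟶ X), Epi π ∧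
      ((yI).map π ≫ g ≫ S.arrow) ≫ cokernel.π S'.arrow = 0) : S ≤ S' := by
  have h0 : S.arrow ≫ cokernel.π S'.arrow = 0 := hom_ext_gen _ _ fun X g => by
    obtain ⟨X', π, hπ, e⟩ := h X g
    rw [← cancel_epi ((yI).map π), comp_zero, comp_zero]
    simpa only [assoc] using e
  exact Subobject.le_of_comm (Abelian.monoLift S'.arrow S.arrow h0) (Abelian.monoLift_comp _ _ _)

/-- Descending chain condition for subobjects from `C` of an object from `C`. -/
theorem dcc (hart : ∀ X : C, IsArtinianObject X) {A : Ind C} (hA : InC A) (S : ℕ → Subobject A)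
    (hS : Antitone S) (hC : ∀ k, InC ((S k : Subobject A) : Ind C)) :
    ∃ N, ∀ m, N ≤ m → S m = S N := by
  obtain ⟨X₀, ⟨e⟩⟩ := hA
  choose Xk ek using hC
  let m : ∀ k, Xk k ⟶ X₀ := fun k => (yI).preimage ((ek k).some.hom ≫ (S k).arrow ≫ e.inv)
  haveI : ∀ k, Mono (m k) := fun k => (yI).mono_of_mono_map (by simp only [m, Functor.map_preimage]; infer_instance)
  have hm : ∀ k, (yI).map (m k) = (ek k).some.hom ≫ (S k).arrow ≫ e.inv := fun k => (yI).map_preimage _
  have key : ∀ k l, Subobject.mk (m k) ≤ Subobject.mk (m l) ↔ S k ≤ S l := fun k l => by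
    constructor
    · intro h
      refine Subobject.le_of_comm ((ek k).some.inv ≫ (yI).map (Subobject.ofMkLEMk _ _ h) ≫ (ek l).some.hom) ?_
      rw [← cancel_mono e.inv, assoc, assoc, assoc, ← hm l, ← Functor.map_comp, Subobject.ofMkLEMk_comp, hm]
      simp
    · intro h
      refine Subobject.mk_le_mk_of_comm
        ((yI).preimage ((ek k).some.hom ≫ Subobject.ofLE _ _ h ≫ (ek l).some.inv)) ((yI).map_injective ?_)
      rw [Functor.map_comp, Functor.map_preimage, hm, hm]
      simp
  haveI := hart X₀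
  obtain ⟨N, hN⟩ := antitone_chain_condition_of_isArtinianObject
    ⟨fun k => OrderDual.toDual (Subobject.mk (m k)), fun k l h => (key l k).2 (hS h)⟩
  exact ⟨N, fun l hl => le_antisymm (hS hl) ((key N l).1 (le_of_eq (hN l hl)))⟩

end Groth.Agent.IndCofLib
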