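import Groth.Agent.IndCofLib.Main

/-!
The divisible part of an ind-object of cofinite type.
-/

set_option autoImplicit false
set_option linter.style.haveILetI false
set_option linter.unusedSectionVars false
set_option backward.isDefEq.respectTransparency false
set_option backward.isDefEq.respectTransparency.types false

universe v

open CategoryTheory Category Limits

namespace Groth.Agent.IndCofLib

variable {C : Type v} [SmallCategory C] [Abelian C] (hart : ∀ X : C, IsArtinianObject X)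

local notation "yI" => (Ind.yoneda : C ⥤ Ind C)

include hart in
theorem divisiblePart (p : ℕ) (hp : p.Prime) (htor : ∀ X : C, ∃ n : ℕ, (p ^ n) • 𝟙 X = 0) (A : Ind C)
    (hA : ∀ n : ℕ, InC (T A (p ^ n))) (N : ℕ)
    (hN : ∀ n : ℕ, N ≤ n → imageSubobject ((p ^ n) • 𝟙 A) = imageSubobject ((p ^ N) • 𝟙 A)) :
    (∀ n : ℕ, InC (T ((imageSubobject ((p ^ N) • 𝟙 A) : Subobject A) : Ind C) (p ^ n))) ∧
      Epi (p • 𝟙 ((imageSubobject ((p ^ N) • 𝟙 A) : Subobject A) : Ind C)) ∧
      (∀ D : Subobject A, Epi (p • 𝟙 (D : Ind C)) → D ≤ imageSubobject ((p ^ N) • 𝟙 A)) ∧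
      (∀ (Q : Ind C) (q : A ⟶ Q), Epi q → InC Q → (imageSubobject ((p ^ N) • 𝟙 A)).arrow ≫ q = 0) := by
  have htor' : ∀ X : C, ∃ d : ℕ, 0 < d ∧ d • 𝟙 X = 0 := fun X =>
    (htor X).elim fun m hm => ⟨p ^ m, pow_pos hp.pos m, hm⟩
  let f := (p ^ N) • 𝟙 A
  let I := imageSubobject f
  refine ⟨fun n => ?_, ?_, fun D hD => ?_, fun Q q _ hQ => ?_⟩
  · have h1 := inC_T_kernel (cokernel.π f) (p ^ n) (hA n)
      (inC_T_cokernel hart htor' f (p ^ n) (fun k => by rw [← pow_mul]; exact hA _)
        (fun k => by rw [← pow_mul]; exact hA _))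
    let e : kernel (cokernel.π f) ≅ (I : Ind C) := Abelian.imageIsoImage f ≪≫ (imageSubobjectIso f).symm
    haveI : IsIso (tmap e.hom (p ^ n)) :=
      ⟨tmap e.inv _, by rw [← cancel_mono (tι _ _)]; simp, by rw [← cancel_mono (tι _ _)]; simp⟩
    exact Functor.essImage.ofIso (asIso (tmap e.hom (p ^ n))) h1
  · refine epi_of_lifts _ fun X g => ?_
    obtain ⟨X', π, y, hπ, hy⟩ := exists_lift (factorThruImageSubobject ((p ^ (N + 1)) • 𝟙 A))
      (g ≫ Subobject.ofLE _ _ (hN (N + 1) (Nat.le_succ N)).ge)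
    refine ⟨X', π, y ≫ factorThruImageSubobject f, hπ, ?_⟩
    have h := congrArg (fun a => a ≫ (imageSubobject ((p ^ (N + 1)) • 𝟙 A)).arrow) hy
    simp only [assoc, imageSubobject_arrow_comp, Subobject.ofLE_arrow] at h
    rw [← cancel_mono I.arrow]
    simp only [f, I, assoc, Preadditive.comp_nsmul, comp_id, Preadditive.nsmul_comp, id_comp,
      imageSubobject_arrow_comp] at h ⊢
    rw [← h, smul_smul, ← pow_succ']
  · have hk : ∀ k, Epi ((p ^ k) • 𝟙 (D : Ind C)) := by
      intro k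
      induction k with
      | zero => simp; infer_instance
      | succ k ih =>
        haveI := ih
        rw [show (p ^ (k + 1)) • 𝟙 (D : Ind C) = (p • 𝟙 _) ≫ ((p ^ k) • 𝟙 _) by
          rw [Preadditive.comp_nsmul, comp_id, smul_smul, pow_succ]]
        infer_instance
    haveI := hk N
    refine le_of_lifts _ _ fun X g => ?_
    obtain ⟨X', π, y, hπ, hy⟩ := exists_lift ((p ^ N) • 𝟙 (D : Ind C)) g
    refine ⟨X', π, hπ, ?_⟩
    have e0 : f ≫ cokernel.π I.arrow = 0 :=
      (congrArg (· ≫ cokernel.π _) (imageSubobject_arrow_comp f).symm).trans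
        ((assoc _ _ _).trans ((congrArg _ (cokernel.condition _)).trans comp_zero))
    have : (yI).map π ≫ g ≫ D.arrow = (y ≫ D.arrow) ≫ f := by
      rw [← assoc, ← hy]; simp [f]
    rw [this, assoc, e0, comp_zero]
  · obtain ⟨X, ⟨e⟩⟩ := hQ
    obtain ⟨k, hk⟩ := htor X
    have hk' : (p ^ k) • 𝟙 Q = 0 := by
      have := congrArg (fun a => e.inv ≫ (yI).map a ≫ e.hom) hk
      simpa [Preadditive.comp_nsmul, Preadditive.nsmul_comp] using this
    rw [← hN (N + k) (Nat.le_add_right N k), ← cancel_epi (factorThruImageSubobject _)]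
    refine (assoc _ _ _).symm.trans ((congrArg (· ≫ q) (imageSubobject_arrow_comp _)).trans ?_)
    rw [Preadditive.nsmul_comp, id_comp, pow_add, mul_smul, comp_zero,
      show p ^ k • q = q ≫ ((p ^ k) • 𝟙 Q) by rw [Preadditive.comp_nsmul, comp_id], hk', comp_zero, smul_zero]

end Groth.Agent.IndCofLib
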