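import Groth.Agent.IndCofLib.Main
import Groth.Agent.H4Easy.Batch65

/-!
Largest divisible subobject for torsion ind-objects of cofinite type; divisible Mittag-Leffler.
-/

set_option autoImplicit false
set_option linter.style.haveILetI false
set_option linter.unusedSectionVars false
set_option backward.isDefEq.respectTransparency false
set_option backward.isDefEq.respectTransparency.types false

universe v

open CategoryTheory Category Limits

namespace Groth.Agent.IndCofLib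

variable {C : Type v} [SmallCategory C] [Abelian C]

local notation "yI" => (Ind.yoneda : C ⥤ Ind C)

variable (A : Ind C) (K : ℕ → ℕ)

/-- the map defining the divisible part -/
noncomputable def divMap : (∐ fun i : ULift.{v} (ℕ × ℕ) => T A ((i.down.1 + 1) ^ i.down.2)) ⟶ A :=
  Sigma.desc fun i => (i.down.1 + 1) ^ K (i.down.1 + 1) • tι A _

/-- the divisible part -/
noncomputable def divPart : Subobject A := imageSubobject (divMap A K)

variable {A K}

theorem mem_divPart {P : Ind C} {n m : ℕ} (hn : 0 < n) (h : P ⟶ A) (hh : n ^ m • h = 0) :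
    ∃ y : P ⟶ (divPart A K : Ind C), y ≫ (divPart A K).arrow = n ^ K n • h := by
  obtain ⟨n, rfl⟩ : ∃ n', n = n' + 1 := ⟨n - 1, by omega⟩
  refine ⟨tlift ((n + 1) ^ m) h hh ≫ Sigma.ι (fun i : ULift.{v} (ℕ × ℕ) => T A ((i.down.1 + 1) ^ i.down.2)) ⟨(n, m)⟩ ≫
    factorThruImageSubobject (divMap A K), ?_⟩
  simp only [divPart, assoc, imageSubobject_arrow_comp, divMap, Sigma.ι_desc, Preadditive.comp_nsmul, tlift_tι]

theorem bezout_dvd {G : Type*} [AddCommGroup G] {k N M : ℕ} {y : G} (hy : M • y = 0) (hd : Nat.gcd k M ∣ N) :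
    ∃ z : ℤ, N • y = k • (z • y) := by
  obtain ⟨t, rfl⟩ := hd
  refine ⟨(t : ℤ) * Nat.gcdA k M, ?_⟩
  have hb := Nat.gcd_eq_gcd_ab k M
  have hy' : (M : ℤ) • y = 0 := by rw [natCast_zsmul, hy]
  rw [← natCast_zsmul, ← natCast_zsmul (n := k), smul_smul, Nat.cast_mul, hb]
  rw [show ((k : ℤ) * Nat.gcdA k M + M * Nat.gcdB k M) * t = k * (t * Nat.gcdA k M) + (t * Nat.gcdB k M) * M by ring,
    add_smul, mul_smul _ (M : ℤ), hy', smul_zero, add_zero]

variable (hart : ∀ X : C, IsArtinianObject X) (htor : ∀ X : C, ∃ d : ℕ, 0 < d ∧ d • 𝟙 X = 0)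

/-- the property of the exponents -/
def GoodExp (A : Ind C) (K : ℕ → ℕ) : Prop :=
  ∀ n, 0 < n → ∀ (j : ℕ) (X : C) (g : (yI).obj X ⟶ A), ∃ (X' : C) (π : X' ⟶ X) (z y : (yI).obj X' ⟶ A),
    Epi π ∧ (yI).map π ≫ g = z + n ^ j • y ∧ n ^ K n • z = 0

include hart htor in
theorem exists_goodExp (A : Ind C) (hA : ∀ n : ℕ, 0 < n → InC (T A n)) : ∃ K, GoodExp A K := by
  choose K hK using fun (n : ℕ) (hn : 0 < n) => exists_divide hart htor A n fun k => hA _ (pow_pos hn k)
  exact ⟨fun n => if hn : 0 < n then K n hn else 0, fun n hn => by simp only [dif_pos hn]; exact hK n hn⟩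

variable (hK : GoodExp A K)

include hK in
theorem epi_nsmul_divPart (k : ℕ) (hk : 0 < k) : Epi (k • 𝟙 (divPart A K : Ind C)) := by
  refine Preadditive.epi_of_cokernel_zero ?_
  haveI : Epi (factorThruImageSubobject (divMap A K)) := inferInstance
  rw [← cancel_epi (factorThruImageSubobject (divMap A K)), comp_zero]
  refine Sigma.hom_ext _ _ fun i => ?_
  obtain ⟨n, m⟩ := i
  rw [comp_zero]
  refine hom_ext_gen _ _ fun X x => ?_
  rw [comp_zero]
  let N := n + 1
  obtain ⟨X', π, z, y, hπ, hy, hz⟩ := hK N n.succ_pos k X (x ≫ tι A (N ^ m))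
  have hx : N ^ m • (x ≫ tι A (N ^ m)) = 0 := nsmul_comp_tι A _ x
  have hM : N ^ (m + K N + k) • y = 0 := by
    have h1 : N ^ K N • ((yI).map π ≫ x ≫ tι A (N ^ m)) = N ^ (K N + k) • y := by
      rw [hy, smul_add, hz, zero_add, smul_smul, ← pow_add]
    rw [add_assoc, pow_add, mul_smul, ← h1, smul_comm, ← Preadditive.comp_nsmul, hx, comp_zero, smul_zero]
  obtain ⟨c, hc⟩ := bezout_dvd (k := k) hM (N := N ^ k) (dvd_pow_self' hk (Nat.gcd_dvd_left _ _) (Nat.gcd_dvd_right _ _))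
  obtain ⟨w, hw⟩ := mem_divPart (K := K) n.succ_pos (c • y) (by rw [smul_comm, hM, smul_zero])
  have key : (yI).map π ≫ x ≫ Sigma.ι (fun i : ULift.{v} (ℕ × ℕ) => T A ((i.down.1 + 1) ^ i.down.2)) ⟨(n, m)⟩ ≫
      factorThruImageSubobject (divMap A K) = w ≫ (k • 𝟙 (divPart A K : Ind C)) := by
    rw [← cancel_mono (divPart A K).arrow]
    simp only [assoc, divPart, imageSubobject_arrow_comp, divMap, Sigma.ι_desc, Preadditive.comp_nsmul,
      Preadditive.nsmul_comp, id_comp]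
    change N ^ K N • ((yI).map π ≫ x ≫ tι A (N ^ m)) = k • (w ≫ (divPart A K).arrow)
    rw [hy, hw, smul_add, hz, zero_add, hc, smul_comm]
  rw [← cancel_epi ((yI).map π), comp_zero]
  refine Eq.trans ?_ ((congrArg (w ≫ ·) (cokernel.condition (k • 𝟙 (divPart A K : Ind C)))).trans comp_zero)
  rw [← Category.assoc w, ← key]
  simp only [assoc]

include hK htor in
theorem le_divPart (D : Subobject A) (hD : ∀ k : ℕ, 0 < k → Epi (k • 𝟙 (D : Ind C))) : D ≤ divPart A K := by
  refine le_of_lifts _ _ fun X g => ?_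
  obtain ⟨d, hd, hdg⟩ := torsion_of_hom htor g
  haveI := hD (d ^ K d) (pow_pos hd _)
  obtain ⟨X', π, h, hπ, hh⟩ := exists_lift (d ^ K d • 𝟙 (D : Ind C)) g
  rw [Preadditive.comp_nsmul, comp_id] at hh
  have h0 : d ^ (K d + 1) • (h ≫ D.arrow) = 0 := by
    rw [pow_succ', mul_smul, ← Preadditive.nsmul_comp, hh, ← Preadditive.nsmul_comp, ← Preadditive.comp_nsmul, hdg,
      comp_zero, zero_comp]
  obtain ⟨y, hy⟩ := mem_divPart (K := K) hd _ h0
  refine ⟨X', π, hπ, ?_⟩
  rw [← assoc, ← hh, Preadditive.nsmul_comp, ← hy, assoc, cokernel.condition, comp_zero]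

include hart htor hK in
theorem inC_T_divPart (hA : ∀ n : ℕ, 0 < n → InC (T A n)) (n : ℕ) (hn : 0 < n) :
    InC (T (divPart A K : Ind C) n) := by
  let μ := mulPow A n (K n)
  let j := tmap (divPart A K).arrow n
  let S := imageSubobject μ
  have h1 : j ≫ cokernel.π μ = 0 := hom_ext_gen _ _ fun X g => by
    haveI := epi_nsmul_divPart hK (n ^ K n) (pow_pos hn _)
    obtain ⟨X', π, h, hπ, hh⟩ := exists_lift (n ^ K n • 𝟙 (divPart A K : Ind C)) (g ≫ tι _ n)
    rw [Preadditive.comp_nsmul, comp_id] at hh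
    have h0 : n ^ (K n + 1) • (h ≫ (divPart A K).arrow) = 0 := by
      rw [pow_succ', mul_smul, ← Preadditive.nsmul_comp, hh, ← Preadditive.nsmul_comp, ← Preadditive.comp_nsmul,
        nsmul_comp_tι, comp_zero, zero_comp]
    have e : (yI).map π ≫ g ≫ j = tlift _ _ h0 ≫ μ := by
      rw [← cancel_mono (tι A n)]
      simp only [j, μ, assoc, tmap_tι, mulPow_tι, Preadditive.comp_nsmul, tlift_tι]
      rw [← Preadditive.nsmul_comp, hh, assoc, assoc]
    rw [comp_zero, ← cancel_epi ((yI).map π), comp_zero, ← assoc g, ← assoc ((yI).map π), e, assoc,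
      cokernel.condition, comp_zero]
  obtain ⟨y, hy⟩ := mem_divPart (K := K) (m := K n + 1) hn (tι A (n ^ (K n + 1))) (nsmul_tι _ _)
  let μ' : T A (n ^ (K n + 1)) ⟶ T (divPart A K : Ind C) n := tlift n y (by
    rw [← cancel_mono (divPart A K).arrow, Preadditive.nsmul_comp, hy, smul_smul, ← pow_succ', nsmul_tι, zero_comp])
  have hμ' : μ' ≫ j = μ := by
    rw [← cancel_mono (tι A n)]
    simp [μ', j, μ, mulPow_tι, hy]
  haveI : Mono j := mono_tmap _ _
  let l : T (divPart A K : Ind C) n ⟶ kernel (cokernel.π μ) := kernel.lift _ j h1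
  haveI : Mono l := by
    have : Mono (l ≫ kernel.ι _) := by rw [kernel.lift_ι]; infer_instance
    exact mono_of_mono l (kernel.ι _)
  haveI : Epi (μ' ≫ l) := by
    rw [show μ' ≫ l = Abelian.factorThruImage μ from by
      rw [← cancel_mono (kernel.ι (cokernel.π μ)), assoc, kernel.lift_ι, hμ']; exact (Abelian.image.fac μ).symm]
    infer_instance
  haveI : Epi l := epi_of_epi μ' l
  haveI : IsIso l := isIso_of_mono_of_epi l
  exact Functor.essImage.ofIso (asIso l).symm
    (inC_kernel _ (hA n hn) (inC_cokernel μ (hA _ (pow_pos hn _)) (hA n hn)))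

include hart htor in
theorem exists_largest (A : Ind C) (hA : ∀ n : ℕ, 0 < n → InC (T A n)) :
    ∃ D : Subobject A, (∀ k : ℕ, 0 < k → Epi (k • 𝟙 (D : Ind C))) ∧
      (∀ D' : Subobject A, (∀ k : ℕ, 0 < k → Epi (k • 𝟙 (D' : Ind C))) → D' ≤ D) ∧
      (∀ n : ℕ, 0 < n → InC (T (D : Ind C) n)) ∧ (∀ n : ℕ, 0 < n → InC (T (cokernel D.arrow) n)) := by
  obtain ⟨K, hK⟩ := exists_goodExp hart htor A hA
  refine ⟨divPart A K, epi_nsmul_divPart hK, le_divPart htor hK, inC_T_divPart hart htor hK hA, fun n hn => ?_⟩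
  exact inC_T_cokernel hart htor (divPart A K).arrow n (fun k => inC_T_divPart hart htor hK hA _ (pow_pos hn k))
    (fun k => hA _ (pow_pos hn k))

include htor in
theorem exists_killer {Q : Ind C} (hQ : InC Q) : ∃ M : ℕ, 0 < M ∧ M • 𝟙 Q = 0 := by
  obtain ⟨X, ⟨e⟩⟩ := hQ
  obtain ⟨d, hd, hdX⟩ := torsion_of_hom htor e.hom
  exact ⟨d, hd, by rw [← cancel_epi e.hom, Preadditive.comp_nsmul, comp_id, hdX, comp_zero]⟩

theorem inC_of_killed {Q : Ind C} {M : ℕ} (hM : M • 𝟙 Q = 0) (h : InC (T Q M)) : InC Q := by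
  haveI : IsIso (tι Q M) :=
    ⟨tlift M (𝟙 Q) hM, by rw [← cancel_mono (tι Q M), assoc, tlift_tι, comp_id, id_comp], tlift_tι _ _ _⟩
  exact Functor.essImage.ofIso (asIso (tι Q M)) h

theorem epi_of_coprime_killer {B' : Subobject A} (hB : ∀ k : ℕ, 0 < k → Epi (k • 𝟙 (B' : Ind C))) {M : ℕ}
    (hM : M • 𝟙 (cokernel B'.arrow) = 0) {p : ℕ} (hp : 0 < p) (hpM : Nat.gcd p M = 1) : Epi (p • 𝟙 A) := by
  refine Preadditive.epi_of_cokernel_zero ?_
  let c := cokernel.π (p • 𝟙 A)
  change c = 0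
  have h1 : p • c = 0 := by
    have : (p • 𝟙 A) ≫ c = 0 := cokernel.condition _
    simpa only [Preadditive.nsmul_comp, id_comp] using this
  haveI := hB p hp
  have h2 : B'.arrow ≫ c = 0 := by
    rw [← cancel_epi (p • 𝟙 (B' : Ind C)), comp_zero, Preadditive.nsmul_comp, id_comp, ← Preadditive.comp_nsmul,
      h1, comp_zero]
  let d := cokernel.desc B'.arrow c h2
  have h3 : M • c = 0 := by
    have : (M • 𝟙 (cokernel B'.arrow)) ≫ d = 0 := by rw [hM, zero_comp]
    rw [Preadditive.nsmul_comp, id_comp] at this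
    rw [show c = cokernel.π B'.arrow ≫ d from (cokernel.π_desc _ _ _).symm, ← Preadditive.comp_nsmul, this, comp_zero]
  obtain ⟨z, hz⟩ := bezout_dvd (k := p) (N := 1) h3 (by rw [hpM])
  rw [one_smul] at hz
  rw [hz, smul_comm, h1, smul_zero]

theorem epi_nsmul_of_primes (A : Ind C) : ∀ d : ℕ, 0 < d →
    (∀ q : ℕ, q.Prime → q ∣ d → Epi (q • 𝟙 A)) → Epi (d • 𝟙 A) := by
  intro d
  induction d using Nat.strong_induction_on with
  | _ d ih =>
    intro hd h
    by_cases h1 : d = 1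
    · subst h1; rw [one_smul]; infer_instance
    · obtain ⟨q, hq, e, rfl⟩ := Nat.exists_prime_and_dvd h1
      have he : 0 < e := pos_of_mul_pos_right hd (Nat.zero_le q)
      haveI := h q hq (dvd_mul_right q e)
      haveI := ih e (lt_mul_of_one_lt_left he hq.one_lt) he fun r hr hre => h r hr (hre.mul_left q)
      rw [show (q * e) • 𝟙 A = (q • 𝟙 A) ≫ (e • 𝟙 A) by
        rw [Preadditive.comp_nsmul, comp_id, smul_smul, mul_comm]]
      infer_instance

include hart htor in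
theorem main_tfae (A : Ind C) (hA : ∀ n : ℕ, 0 < n → InC (T A n)) :
    ((∀ n : ℕ, 0 < n → ∃ m : ℕ, 0 < m ∧ n ∣ m ∧ ∀ m' : ℕ, 0 < m' → m ∣ m' →
        imageSubobject ((m' / n) • 𝟙 A) = imageSubobject ((m / n) • 𝟙 A)) ↔
      ∃ B' : Subobject A, (∀ k : ℕ, 0 < k → Epi (k • 𝟙 (B' : Ind C))) ∧ InC (cokernel B'.arrow)) ∧
    ((∃ B' : Subobject A, (∀ k : ℕ, 0 < k → Epi (k • 𝟙 (B' : Ind C))) ∧ InC (cokernel B'.arrow)) ↔
      {p : ℕ | p.Prime ∧ ¬ Epi (p • 𝟙 A)}.Finite) := by
  obtain ⟨K, hK⟩ := exists_goodExp hart htor A hA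
  have hD := epi_nsmul_divPart hK
  have hDcok : ∀ M, 0 < M → M • 𝟙 (cokernel (divPart A K).arrow) = 0 → InC (cokernel (divPart A K).arrow) :=
    fun M hM0 hM => inC_of_killed hM (inC_T_cokernel hart htor (divPart A K).arrow M
      (fun k => inC_T_divPart hart htor hK hA _ (pow_pos hM0 k)) (fun k => hA _ (pow_pos hM0 k)))
  refine ⟨⟨fun h => ?_, fun ⟨B', h1, h2⟩ => (H4Easy.mittagLeffler_iff A).1.2 ⟨B', h1, exists_killer htor h2⟩⟩,
    ⟨fun ⟨B', h1, h2⟩ => ?_, fun h => ?_⟩⟩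
  · obtain ⟨B', h1, M, hM0, hM⟩ := (H4Easy.mittagLeffler_iff A).1.1 h
    have e : B' = divPart A K := le_antisymm (le_divPart htor hK B' h1)
      ((H4Easy.mittagLeffler_iff A).2 B' h1 ⟨M, hM0, hM⟩ _ hD)
    subst e
    exact ⟨_, h1, hDcok M hM0 hM⟩
  · obtain ⟨M, hM0, hM⟩ := exists_killer htor h2
    refine (Set.finite_le_nat M).subset fun p hp => ?_
    by_contra hlt
    have hpM : ¬ p ∣ M := fun hd => hlt (Nat.le_of_dvd hM0 hd)
    exact hp.2 (epi_of_coprime_killer h1 hM hp.1.pos ((hp.1.coprime_iff_not_dvd).2 hpM))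
  · let n := h.toFinset.prod id
    have hn : 0 < n := Finset.prod_pos fun p hp => ((h.mem_toFinset).1 hp).1.pos
    have hepi : ∀ e : ℕ, 0 < e → Nat.gcd e n = 1 → Epi (e • 𝟙 A) := fun e he hen =>
      epi_nsmul_of_primes A e he fun q hq hqe => by
        by_contra hne
        have : q ∣ n := Finset.dvd_prod_of_mem id ((h.mem_toFinset).2 ⟨hq, hne⟩)
        exact hq.not_dvd_one (hen ▸ Nat.dvd_gcd hqe this)
    have hkill : n ^ K n • 𝟙 (cokernel (divPart A K).arrow) = 0 := by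
      rw [← cancel_epi (cokernel.π (divPart A K).arrow), Preadditive.comp_nsmul, comp_id, comp_zero]
      refine hom_ext_gen _ _ fun X g => ?_
      obtain ⟨d, hd, hdg⟩ := torsion_of_hom htor g
      let c := Nat.gcd d (n ^ d)
      obtain ⟨e, he⟩ : c ∣ d := Nat.gcd_dvd_left _ _
      have he0 : 0 < e := Nat.pos_of_ne_zero fun e0 => hd.ne' (by rw [he, e0, mul_zero])
      have hc0 : 0 < c := Nat.gcd_pos_of_pos_left _ hd
      have hen : Nat.gcd e n = 1 := Nat.coprime_of_dvd fun q hq hqe hqn => by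
        have h1 : c * q ∣ d := he ▸ mul_dvd_mul_left c hqe
        have h2 : c * q ∣ n ^ (d + 1) := pow_succ n d ▸ mul_dvd_mul (Nat.gcd_dvd_right _ _) hqn
        have h3 : c * q ∣ c := Nat.dvd_gcd h1 (dvd_pow_self' hd h1 h2)
        have h4 := Nat.le_of_dvd hc0 h3
        exact absurd h4 (not_le.2 (lt_mul_of_one_lt_right hc0 hq.one_lt))
      have hce : Nat.gcd e (n ^ d) = 1 := Nat.Coprime.pow_right d hen
      -- the part prime to `n`
      have hpart : ∀ {X : C} (w : (yI).obj X ⟶ A), e • w = 0 → w ≫ cokernel.π (divPart A K).arrow = 0 := by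
        intro X w hw
        haveI := hepi (e ^ K e) (pow_pos he0 _) (Nat.Coprime.pow_left _ hen)
        obtain ⟨X', π, y, hπ, hy⟩ := exists_lift (e ^ K e • 𝟙 A) w
        rw [Preadditive.comp_nsmul, comp_id] at hy
        obtain ⟨z, hz⟩ := mem_divPart (K := K) (m := K e + 1) he0 y (by
          rw [pow_succ', mul_smul, hy, ← Preadditive.comp_nsmul, hw, comp_zero])
        rw [← cancel_epi ((yI).map π), comp_zero, ← assoc, ← hy, ← hz, assoc, cokernel.condition, comp_zero]
      have hb := Nat.gcd_eq_gcd_ab e c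
      have hec : Nat.gcd e c = 1 := Nat.eq_one_of_dvd_one
        (hce ▸ Nat.dvd_gcd (Nat.gcd_dvd_left _ _) ((Nat.gcd_dvd_right e c).trans (Nat.gcd_dvd_right _ _)))
      rw [hec, Nat.cast_one] at hb
      let u := e • (Nat.gcdA e c • g)
      let w := c • (Nat.gcdB e c • g)
      have hg : g = u + w := by
        simp only [u, w, ← natCast_zsmul, smul_smul, ← add_smul, ← hb, one_smul]
      have hu : n ^ d • u = 0 := by
        obtain ⟨t, ht⟩ : c ∣ n ^ d := Nat.gcd_dvd_right _ _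
        rw [ht, mul_comm c t, mul_smul, show c • u = Nat.gcdA e c • (d • g) by
          simp only [u]; rw [smul_smul, ← he, smul_comm], hdg, smul_zero, smul_zero]
      have hw : e • w = 0 := by
        simp only [w]; rw [smul_smul, mul_comm, ← he, smul_comm, hdg, smul_zero]
      obtain ⟨y, hy⟩ := mem_divPart (K := K) hn u hu
      rw [comp_zero, Preadditive.comp_nsmul, hg, Preadditive.add_comp, hpart w hw, add_zero,
        ← Preadditive.nsmul_comp, ← hy, assoc, cokernel.condition, comp_zero]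
    exact ⟨_, hD, hDcok _ (pow_pos hn _) hkill⟩

end Groth.Agent.IndCofLib
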