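import Groth.Agent.IndCofLib.Basic

/-!
Ind-objects of cofinite type: divisibility up to bounded torsion, cokernels, chain condition.
-/

set_option autoImplicit false
set_option linter.style.haveILetI false
set_option linter.unusedSectionVars false
set_option backward.isDefEq.respectTransparency false
set_option backward.isDefEq.respectTransparency.types false

universe v

open CategoryTheory Category Limits

namespace Groth.Agent.IndCofLib

variable {C : Type v} [SmallCategory C] [Abelian C]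

local notation "yI" => (Ind.yoneda : C ⥤ Ind C)

/-- The torsion subobject. -/
noncomputable abbrev T (A : Ind C) (m : ℕ) : Ind C := kernel (m • 𝟙 A)

noncomputable abbrev tι (A : Ind C) (m : ℕ) : T A m ⟶ A := kernel.ι (m • 𝟙 A)

theorem nsmul_tι (A : Ind C) (m : ℕ) : m • tι A m = 0 := by
  simpa [Preadditive.comp_nsmul] using kernel.condition (m • 𝟙 A)

theorem nsmul_comp_tι {P : Ind C} (A : Ind C) (m : ℕ) (g : P ⟶ T A m) : m • (g ≫ tι A m) = 0 := by
  rw [← Preadditive.comp_nsmul, nsmul_tι, comp_zero]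

/-- Lift of a morphism killed by `m`. -/
noncomputable def tlift {P A : Ind C} (m : ℕ) (g : P ⟶ A) (h : m • g = 0) : P ⟶ T A m :=
  kernel.lift _ g (by rw [Preadditive.comp_nsmul, comp_id, h])

@[reassoc (attr := simp)]
theorem tlift_tι {P A : Ind C} (m : ℕ) (g : P ⟶ A) (h : m • g = 0) : tlift m g h ≫ tι A m = g :=
  kernel.lift_ι _ _ _

/-- Functoriality of torsion. -/
noncomputable def tmap {A B : Ind C} (f : A ⟶ B) (m : ℕ) : T A m ⟶ T B m :=
  tlift m (tι A m ≫ f) (by rw [← Preadditive.nsmul_comp, nsmul_tι, zero_comp])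

@[reassoc (attr := simp)]
theorem tmap_tι {A B : Ind C} (f : A ⟶ B) (m : ℕ) : tmap f m ≫ tι B m = tι A m ≫ f := tlift_tι _ _ _

instance mono_tmap {A B : Ind C} (f : A ⟶ B) [Mono f] (m : ℕ) : Mono (tmap f m) := by
  have : Mono (tmap f m ≫ tι B m) := by rw [tmap_tι]; infer_instance
  exact mono_of_mono (tmap f m) (tι B m)

theorem torsion_of_hom (htor : ∀ X : C, ∃ d : ℕ, 0 < d ∧ d • 𝟙 X = 0) {A : Ind C} {X : C}
    (g : (yI).obj X ⟶ A) : ∃ d : ℕ, 0 < d ∧ d • g = 0 := by
  obtain ⟨d, hd, h⟩ := htor X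
  refine ⟨d, hd, ?_⟩
  have := congrArg (fun a => (yI).map a ≫ g) h
  simpa using this

theorem dvd_pow_self' {c d n m : ℕ} (hd : 0 < d) (hcd : c ∣ d) (hcm : c ∣ n ^ m) : c ∣ n ^ d := by
  rw [Nat.dvd_iff_prime_pow_dvd_dvd]
  intro p k hp hk
  rcases Nat.eq_zero_or_pos k with rfl | hk0
  · simp
  have hpn : p ∣ n := hp.dvd_of_dvd_pow ((dvd_pow_self p hk0.ne').trans (hk.trans hcm))
  have hkd : k ≤ d := ((Nat.lt_pow_self hp.one_lt).le.trans (Nat.le_of_dvd hd (hk.trans hcd)))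
  exact (pow_dvd_pow_of_dvd hpn k).trans (pow_dvd_pow n hkd)

/-- Any torsion element is, modulo `n ^ j`, killed by a power of `n`. -/
theorem exists_decomp {G : Type*} [AddCommGroup G] (n : ℕ) {d : ℕ} (hd : 0 < d) (g : G) (hg : d • g = 0) (j : ℕ) :
    ∃ u v : G, g = u + n ^ j • v ∧ n ^ d • u = 0 := by
  obtain ⟨t, ht⟩ := dvd_pow_self' hd (Nat.gcd_dvd_left d (n ^ (d + j))) (Nat.gcd_dvd_right _ _)
  have hb := Nat.gcd_eq_gcd_ab d (n ^ (d + j))
  let b := Nat.gcdB d (n ^ (d + j))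
  refine ⟨g - n ^ j • (((t : ℤ) * b) • g), ((t : ℤ) * b) • g, by abel, ?_⟩
  have hd' : (d : ℤ) • g = 0 := by rw [natCast_zsmul, hg]
  have ht' : ((n ^ d : ℕ) : ℤ) = (t : ℤ) * (Nat.gcd d (n ^ (d + j)) : ℤ) := by
    have := congrArg (Nat.cast : ℕ → ℤ) ht
    push_cast at this ⊢
    rw [this]; ring
  rw [hb] at ht'
  rw [smul_sub, sub_eq_zero, smul_smul, ← pow_add, ← natCast_zsmul, ← natCast_zsmul (a := _) (n := n ^ (d + j)),
    smul_smul, ht', mul_add, add_smul, mul_comm (d : ℤ), ← mul_assoc, mul_smul _ (d : ℤ), hd', smul_zero,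
    zero_add]
  congr 1
  ring

variable (hart : ∀ X : C, IsArtinianObject X) (htor : ∀ X : C, ∃ d : ℕ, 0 < d ∧ d • 𝟙 X = 0)

/-- Multiplication by `n ^ k` from `A[n ^ (k+1)]` to `A[n]`. -/
noncomputable def mulPow (A : Ind C) (n k : ℕ) : T A (n ^ (k + 1)) ⟶ T A n :=
  tlift n (n ^ k • tι A (n ^ (k + 1))) (by rw [smul_smul, ← pow_succ', nsmul_tι])

theorem mulPow_tι (A : Ind C) (n k : ℕ) : mulPow A n k ≫ tι A n = n ^ k • tι A (n ^ (k + 1)) :=
  tlift_tι _ _ _

include hart in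
theorem exists_stable (A : Ind C) (n : ℕ) (hA : ∀ k, InC (T A (n ^ k))) :
    ∃ K, ∀ k j, K ≤ k → imageSubobject (mulPow A n (k + j)) = imageSubobject (mulPow A n k) := by
  have h1 : InC (T A n) := by simpa using hA 1
  have hant : Antitone fun k => imageSubobject (mulPow A n k) := antitone_nat_of_succ_le fun k => by
    let c : T A (n ^ (k + 1 + 1)) ⟶ T A (n ^ (k + 1)) := tlift _ (n • tι A (n ^ (k + 1 + 1)))
      (by rw [smul_smul, ← pow_succ, nsmul_tι])
    have : mulPow A n (k + 1) = c ≫ mulPow A n k := by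
      rw [← cancel_mono (tι A n), assoc, mulPow_tι, mulPow_tι, Preadditive.comp_nsmul, tlift_tι,
        smul_smul, ← pow_succ]
    change imageSubobject (mulPow A n (k + 1)) ≤ _
    rw [this]
    exact imageSubobject_comp_le c (mulPow A n k)
  obtain ⟨N, hN⟩ := dcc hart h1 _ hant fun k => inC_imageSubobject _ (hA _) h1
  exact ⟨N, fun k j hk => (hN (k + j) (by omega)).trans (hN k hk).symm⟩

include hart htor in
/-- Every element is, modulo `n ^ j` and after refinement, killed by a fixed power of `n`. -/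
theorem exists_divide (A : Ind C) (n : ℕ) (hA : ∀ k, InC (T A (n ^ k))) :
    ∃ K, ∀ (j : ℕ) (X : C) (g : (yI).obj X ⟶ A), ∃ (X' : C) (π : X' ⟶ X) (z y : (yI).obj X' ⟶ A),
      Epi π ∧ (yI).map π ≫ g = z + n ^ j • y ∧ n ^ K • z = 0 := by
  obtain ⟨K, hK⟩ := exists_stable hart A n hA
  have key : ∀ (j m : ℕ) (X : C) (g : (yI).obj X ⟶ A), n ^ m • g = 0 →
      ∃ (X' : C) (π : X' ⟶ X) (z y : (yI).obj X' ⟶ A),
        Epi π ∧ (yI).map π ≫ g = z + n ^ j • y ∧ n ^ K • z = 0 := by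
    intro j m
    induction m with
    | zero =>
      intro X g hg
      rw [pow_zero, one_smul] at hg
      exact ⟨X, 𝟙 X, 0, 0, inferInstance, by simp [hg], smul_zero _⟩
    | succ i ih =>
      intro X g hg
      by_cases hi : i + 1 ≤ K
      · refine ⟨X, 𝟙 X, g, 0, inferInstance, by simp, ?_⟩
        rw [← Nat.sub_add_cancel hi, pow_add, mul_smul, hg, smul_zero]
      have hle := (hK i j (by omega)).symm.le
      obtain ⟨X₁, π₁, w, hπ₁, hw⟩ := exists_lift (factorThruImageSubobject (mulPow A n (i + j)))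
        (tlift _ g hg ≫ factorThruImageSubobject (mulPow A n i) ≫ Subobject.ofLE _ _ hle)
      have e : n ^ i • ((yI).map π₁ ≫ g - n ^ j • (w ≫ tι A _)) = 0 := by
        have h := congrArg (fun a => a ≫ (imageSubobject (mulPow A n (i + j))).arrow ≫ tι A n) hw
        simp only [assoc, Subobject.ofLE_arrow_assoc, imageSubobject_arrow_comp_assoc, mulPow_tι,
          Preadditive.comp_nsmul, tlift_tι] at h
        rw [smul_sub, sub_eq_zero, smul_smul, ← pow_add, ← h]
      obtain ⟨X', π', z, y, hπ', hy, hz⟩ := ih X₁ _ e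
      refine ⟨X', π' ≫ π₁, z, y + (yI).map π' ≫ w ≫ tι A _, epi_comp _ _, ?_, hz⟩
      rw [Preadditive.comp_sub, Preadditive.comp_nsmul, sub_eq_iff_eq_add] at hy
      rw [Functor.map_comp, assoc, hy, smul_add, add_assoc]
  refine ⟨K, fun j X g => ?_⟩
  obtain ⟨d, hd, hdg⟩ := torsion_of_hom htor g
  obtain ⟨u, v, rfl, hu⟩ := exists_decomp n hd g hdg j
  obtain ⟨X', π, z, y, hπ, hy, hz⟩ := key j d X u hu
  exact ⟨X', π, z, y + (yI).map π ≫ v, hπ,
    by rw [Preadditive.comp_add, Preadditive.comp_nsmul, hy, smul_add, add_assoc], hz⟩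

include hart htor in
theorem inC_cokernel_nsmul (A : Ind C) (n : ℕ) (hA : ∀ k, InC (T A (n ^ k))) : InC (cokernel (n • 𝟙 A)) := by
  obtain ⟨K, hK⟩ := exists_divide hart htor A n hA
  let μ : T A (n ^ (K + 1)) ⟶ T A (n ^ K) := tlift _ (n • tι A (n ^ (K + 1)))
    (by rw [smul_smul, ← pow_succ, nsmul_tι])
  let S := ShortComplex.mk μ (tι A (n ^ K) ≫ cokernel.π (n • 𝟙 A)) (by
    rw [← assoc, tlift_tι, show n • tι A (n ^ (K + 1)) = tι A (n ^ (K + 1)) ≫ (n • 𝟙 A) by
      rw [Preadditive.comp_nsmul, comp_id], assoc, cokernel.condition, comp_zero])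
  have hS : S.Exact := exact_of_lifts fun X g hg => by
    obtain ⟨X₁, π₁, y, hπ₁, hy⟩ := lift_of_cokernel (n • 𝟙 A) (g ≫ tι A _) (by rw [assoc]; exact hg)
    rw [Preadditive.comp_nsmul, comp_id] at hy
    have hy' : n ^ (K + 1) • y = 0 := by
      rw [pow_succ, mul_smul, hy, ← Preadditive.comp_nsmul, nsmul_comp_tι, comp_zero]
    refine ⟨X₁, π₁, tlift _ y hy', hπ₁, ?_⟩
    change tlift _ y hy' ≫ μ = (yI).map π₁ ≫ g
    rw [← cancel_mono (tι A (n ^ K)), assoc, assoc, tlift_tι, Preadditive.comp_nsmul, tlift_tι, hy]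
  haveI : Epi S.g := epi_of_lifts _ fun X g => by
    obtain ⟨X₁, π₁, h, hπ₁, hh⟩ := exists_lift (cokernel.π (n • 𝟙 A)) g
    obtain ⟨X₂, π₂, z, y, hπ₂, hy, hz⟩ := hK 1 X₁ h
    refine ⟨X₂, π₂ ≫ π₁, tlift _ z hz, epi_comp _ _, ?_⟩
    change tlift _ z hz ≫ tι A _ ≫ cokernel.π _ = _
    rw [pow_one] at hy
    have e : (n • y) ≫ cokernel.π (n • 𝟙 A) = 0 := by
      rw [show n • y = y ≫ (n • 𝟙 A) by rw [Preadditive.comp_nsmul, comp_id], assoc, cokernel.condition,
        comp_zero]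
    rw [tlift_tι_assoc, Functor.map_comp, assoc, ← hh, ← assoc, hy, Preadditive.add_comp, e, add_zero]
  exact Functor.essImage.ofIso ((colimit.isColimit (parallelPair μ 0)).coconePointUniqueUpToIso hS.gIsCokernel)
    (inC_cokernel μ (hA _) (hA _))

theorem inC_T_kernel {A B : Ind C} (f : A ⟶ B) (m : ℕ) (hA : InC (T A m)) (hB : InC (T B m)) :
    InC (T (kernel f) m) := by
  let e : kernel (tmap f m) ≅ T (kernel f) m :=
    { hom := tlift m (kernel.lift f (kernel.ι (tmap f m) ≫ tι A m) (by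
        rw [assoc, ← tmap_tι, ← assoc, kernel.condition, zero_comp])) (by
          rw [← cancel_mono (kernel.ι f), Preadditive.nsmul_comp, kernel.lift_ι, ← Preadditive.comp_nsmul,
            nsmul_tι, comp_zero, zero_comp])
      inv := kernel.lift _ (tlift m (tι (kernel f) m ≫ kernel.ι f)
          (by rw [← Preadditive.nsmul_comp, nsmul_tι, zero_comp])) (by
          rw [← cancel_mono (tι B m), assoc, tmap_tι, tlift_tι_assoc, assoc, kernel.condition, comp_zero,
            zero_comp])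
      hom_inv_id := by
        rw [← cancel_mono (kernel.ι (tmap f m)), ← cancel_mono (tι A m)]
        simp
      inv_hom_id := by
        rw [← cancel_mono (tι (kernel f) m), ← cancel_mono (kernel.ι f)]
        simp }
  exact Functor.essImage.ofIso e (inC_kernel _ hA hB)

include hart htor in
theorem inC_T_cokernel {A B : Ind C} (f : A ⟶ B) (n : ℕ) (hA : ∀ k, InC (T A (n ^ k)))
    (hB : ∀ k, InC (T B (n ^ k))) : InC (T (cokernel f) n) := by
  obtain ⟨K₁, hK₁⟩ := exists_divide hart htor A n hA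
  obtain ⟨K₃, hK₃⟩ := exists_divide hart htor (kernel f) n fun k => inC_T_kernel f _ (hA k) (hB k)
  let M := K₁ + 1
  let L := M + K₃
  let h' : T A (n ^ L) ⟶ T B (n ^ L) := n ^ M • tmap f (n ^ L)
  let ψ : kernel h' ⟶ T B (n ^ M) := tlift _ (kernel.ι h' ≫ tι A _ ≫ f) (by
    rw [← Preadditive.comp_nsmul, ← tmap_tι, ← Preadditive.nsmul_comp]
    exact (reassoc_of% kernel.condition h') _ |>.trans zero_comp)
  let φ : T B (n ^ M) ⟶ cokernel f := tι B _ ≫ cokernel.π f
  let S := ShortComplex.mk ψ φ (by simp [ψ, φ])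
  have hS : S.Exact := exact_of_lifts fun X g hg => by
    obtain ⟨X₁, π₁, a, hπ₁, ha⟩ := lift_of_cokernel f (g ≫ tι B _) (by rw [assoc]; exact hg)
    have hk : (n ^ M • a) ≫ f = 0 := by
      rw [Preadditive.nsmul_comp, ha, ← Preadditive.comp_nsmul, nsmul_comp_tι, comp_zero]
    obtain ⟨X₂, π₂, z, k₁, hπ₂, hz₂, hz⟩ := hK₃ M X₁ (kernel.lift f _ hk)
    let a' := (yI).map π₂ ≫ a - k₁ ≫ kernel.ι f
    have haf : a' ≫ f = (yI).map (π₂ ≫ π₁) ≫ g ≫ tι B _ := by
      simp [a', ha]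
    have ha' : n ^ M • a' = z ≫ kernel.ι f := by
      have := congrArg (fun b => b ≫ kernel.ι f) hz₂
      simp only [assoc, kernel.lift_ι, Preadditive.comp_nsmul, Preadditive.add_comp,
        Preadditive.nsmul_comp] at this
      rw [smul_sub, this, add_sub_cancel_right]
    have haL : n ^ L • a' = 0 := by
      rw [show n ^ L = n ^ K₃ * n ^ M by rw [← pow_add, add_comm], mul_smul, ha', ← Preadditive.nsmul_comp,
        hz, zero_comp]
    have hah : tlift _ a' haL ≫ h' = 0 := by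
      rw [← cancel_mono (tι B _), zero_comp, assoc, Preadditive.nsmul_comp, tmap_tι, Preadditive.comp_nsmul,
        tlift_tι_assoc, haf, ← Preadditive.comp_nsmul, nsmul_comp_tι, comp_zero]
    refine ⟨X₂, π₂ ≫ π₁, kernel.lift h' _ hah, epi_comp _ _, ?_⟩
    change kernel.lift h' _ hah ≫ ψ = _
    rw [← cancel_mono (tι B (n ^ M)), assoc, tlift_tι, kernel.lift_ι_assoc, tlift_tι_assoc, haf, assoc]
  haveI := hS.mono_cokernelDesc
  let j := cokernel.desc ψ φ S.zero
  haveI : Mono j := hS.mono_cokernelDesc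
  have hQ : InC (cokernel ψ) := inC_cokernel _ (inC_kernel _ (hA L) (hB L)) (hB M)
  haveI : Epi (tmap j n) := epi_of_lifts _ fun X g => by
    obtain ⟨X₁, π₁, b, hπ₁, hb⟩ := exists_lift (cokernel.π f) (g ≫ tι (cokernel f) n)
    obtain ⟨X₂, π₂, a, hπ₂, ha⟩ := lift_of_cokernel f (n • b) (by
      rw [Preadditive.nsmul_comp, hb, ← Preadditive.comp_nsmul, nsmul_comp_tι, comp_zero])
    obtain ⟨X₃, π₃, z, y, hπ₃, hy, hz⟩ := hK₁ 1 X₂ a
    rw [pow_one] at hy
    let b' := (yI).map (π₃ ≫ π₂) ≫ b - y ≫ f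
    have hnb : n • b' = z ≫ f := by
      have := congrArg (fun c => c ≫ f) hy
      simp only [assoc, ha, Preadditive.comp_nsmul, Preadditive.add_comp, Preadditive.nsmul_comp] at this
      simp only [b', Functor.map_comp, assoc, smul_sub, this, add_sub_cancel_right]
    have hbM : n ^ M • b' = 0 := by
      rw [show n ^ M = n ^ K₁ * n from pow_succ n K₁, mul_smul, hnb, ← Preadditive.nsmul_comp, hz, zero_comp]
    let q := tlift _ b' hbM ≫ cokernel.π ψ
    have hqj : q ≫ j = (yI).map (π₃ ≫ π₂ ≫ π₁) ≫ g ≫ tι (cokernel f) n := by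
      simp [q, j, φ, b', hb]
    have hnq : n • q = 0 := by
      rw [← cancel_mono j, zero_comp, Preadditive.nsmul_comp, hqj, ← Preadditive.comp_nsmul, nsmul_comp_tι,
        comp_zero]
    refine ⟨X₃, π₃ ≫ π₂ ≫ π₁, tlift n q hnq, inferInstance, ?_⟩
    rw [← cancel_mono (tι (cokernel f) n), assoc, tmap_tι, tlift_tι_assoc, hqj, assoc]
  haveI : IsIso (tmap j n) := isIso_of_mono_of_epi _
  exact Functor.essImage.ofIso (asIso (tmap j n)) (inC_kernel _ hQ hQ)

include hart htor in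
theorem image_pow_stable (A : Ind C) (p : ℕ) (hA : ∀ k, InC (T A (p ^ k))) :
    ∃ N : ℕ, ∀ n : ℕ, N ≤ n → imageSubobject ((p ^ n) • 𝟙 A) = imageSubobject ((p ^ N) • 𝟙 A) := by
  obtain ⟨K, hK⟩ := exists_divide hart htor A p hA
  refine ⟨K, fun m hm => le_antisymm ?_ ?_⟩
  · rw [show (p ^ m) • 𝟙 A = ((p ^ (m - K)) • 𝟙 A) ≫ ((p ^ K) • 𝟙 A) by
      rw [Preadditive.comp_nsmul, comp_id, smul_smul, ← pow_add, Nat.add_sub_cancel' hm]]
    exact imageSubobject_comp_le _ _
  · refine imageSubobject_le_of_lifts _ _ fun X g => ?_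
    obtain ⟨X', π, z, y, hπ, hy, hz⟩ := hK m X g
    refine ⟨X', π, hπ, ?_⟩
    have e : (yI).map π ≫ g ≫ ((p ^ K) • 𝟙 A) = (p ^ K • y) ≫ ((p ^ m) • 𝟙 A) := by
      rw [← assoc, hy, Preadditive.comp_nsmul, comp_id, smul_add, hz, zero_add, Preadditive.comp_nsmul,
        comp_id, smul_comm]
    have e0 : ((p ^ m) • 𝟙 A) ≫ cokernel.π (imageSubobject ((p ^ m) • 𝟙 A)).arrow = 0 :=
      (congrArg (· ≫ cokernel.π _) (imageSubobject_arrow_comp ((p ^ m) • 𝟙 A)).symm).trans
        ((assoc _ _ _).trans ((congrArg _ (cokernel.condition _)).trans comp_zero))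
    rw [e, assoc, e0, comp_zero]

include hart in
theorem chain_stable (A : Ind C) (p : ℕ) (htorp : ∀ X : C, ∃ n : ℕ, (p ^ n) • 𝟙 X = 0)
    (hA : ∀ k, InC (T A (p ^ k))) (S : ℕ → Subobject A) (hS : Antitone S)
    (hcof : ∀ m k, InC (T ((S m : Subobject A) : Ind C) (p ^ k))) :
    ∃ N : ℕ, ∀ m : ℕ, N ≤ m → S m = S N := by
  have h1 : InC (T A p) := by simpa using hA 1
  let ν : ∀ m j, T ((S m : Subobject A) : Ind C) (p ^ (j + 1)) ⟶ T A p := fun m j =>
    mulPow _ p j ≫ tmap (S m).arrow p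
  have hν : ∀ m j, ν m j ≫ tι A p = (p ^ j • tι _ (p ^ (j + 1))) ≫ (S m).arrow := fun m j => by
    simp [ν, ← mulPow_tι]
  let D : ℕ → ℕ → Subobject (T A p) := fun m j => imageSubobject (ν m j)
  have hDC : ∀ m j, InC ((D m j : Subobject (T A p)) : Ind C) := fun m j => inC_imageSubobject _ (hcof m _) h1
  have hDm : ∀ {m m' : ℕ} (j), m ≤ m' → D m' j ≤ D m j := fun {m m'} j h => by
    have : ν m' j = tmap (Subobject.ofLE _ _ (hS h)) _ ≫ ν m j := by
      rw [← cancel_mono (tι A p)]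
      refine (hν m' j).trans (Eq.trans ?_ (assoc _ _ _).symm)
      rw [hν, Preadditive.nsmul_comp, Preadditive.nsmul_comp,
        Preadditive.comp_nsmul, tmap_tι_assoc, Subobject.ofLE_arrow]
    simp only [D, this]
    exact imageSubobject_comp_le _ _
  have hDj : ∀ m, Antitone (D m) := fun m => antitone_nat_of_succ_le fun j => by
    let c : T ((S m : Subobject A) : Ind C) (p ^ (j + 1 + 1)) ⟶ T _ (p ^ (j + 1)) :=
      tlift _ (p • tι _ (p ^ (j + 1 + 1))) (by rw [smul_smul, ← pow_succ, nsmul_tι])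
    have : ν m (j + 1) = c ≫ ν m j := by
      rw [← cancel_mono (tι A p)]
      refine (hν m (j + 1)).trans (Eq.trans ?_ (assoc _ _ _).symm)
      rw [hν, Preadditive.nsmul_comp, Preadditive.nsmul_comp,
        Preadditive.comp_nsmul, tlift_tι_assoc, Preadditive.nsmul_comp, smul_smul, ← pow_succ]
    simp only [D, this]
    exact imageSubobject_comp_le _ _
  obtain ⟨k₀, hk₀⟩ := dcc hart h1 (fun k => D k k) (fun a b h => (hDj b h).trans (hDm a h)) fun k => hDC k k
  choose N hN using fun j : ℕ => dcc hart h1 (fun m => D m j) (fun a b h => hDm j h) fun m => hDC m j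
  let N₀ := max k₀ ((Finset.range k₀).sup N)
  have hconst : ∀ j m, N₀ ≤ m → D m j = D N₀ j := by
    intro j m hm
    by_cases hj : j < k₀
    · have hle : N j ≤ N₀ := le_max_of_le_right (Finset.le_sup (Finset.mem_range.2 hj))
      exact (hN j m (hle.trans hm)).trans (hN j N₀ hle).symm
    · have hdiag : ∀ a, k₀ ≤ a → D a j = D k₀ k₀ := fun a ha => le_antisymm
        ((hDm j ha).trans (hDj k₀ (not_lt.1 hj)))
        ((hk₀ (max a j) (le_max_of_le_left ha)).symm.le.trans
          ((hDj _ (le_max_right a j)).trans (hDm j (le_max_left a j))))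
      exact (hdiag m ((le_max_left _ _).trans hm)).trans (hdiag N₀ (le_max_left _ _)).symm
  refine ⟨N₀, fun m hm => le_antisymm (hS hm) (le_of_lifts _ _ ?_)⟩
  have key : ∀ (k : ℕ) (X : C) (g : (yI).obj X ⟶ (S N₀ : Ind C)), p ^ k • g = 0 →
      ∃ (X' : C) (π : X' ⟶ X) (y : (yI).obj X' ⟶ (S m : Ind C)),
        Epi π ∧ y ≫ (S m).arrow = (yI).map π ≫ g ≫ (S N₀).arrow := by
    intro k
    induction k with
    | zero =>
      intro X g hg
      rw [pow_zero, one_smul] at hg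
      exact ⟨X, 𝟙 X, 0, inferInstance, by simp [hg]⟩
    | succ i ih =>
      intro X g hg
      obtain ⟨X₁, π₁, w, hπ₁, hw⟩ := exists_lift (factorThruImageSubobject (ν m i))
        (tlift _ g hg ≫ factorThruImageSubobject (ν N₀ i) ≫ Subobject.ofLE (D N₀ i) (D m i) (hconst i m hm).ge)
      let g' := (yI).map π₁ ≫ g - w ≫ tι _ _ ≫ Subobject.ofLE _ _ (hS hm)
      have e : p ^ i • g' = 0 := by
        have h := congrArg (fun a => a ≫ (D m i).arrow ≫ tι A p) hw
        simp only [assoc, D, Subobject.ofLE_arrow_assoc, imageSubobject_arrow_comp_assoc, hν,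
          Preadditive.nsmul_comp, Preadditive.comp_nsmul, tlift_tι_assoc] at h
        rw [← cancel_mono (S N₀).arrow, zero_comp, Preadditive.nsmul_comp]
        simp only [g', Preadditive.sub_comp, assoc, Subobject.ofLE_arrow, smul_sub, h, sub_self]
      obtain ⟨X', π', y, hπ', hy⟩ := ih X₁ g' e
      refine ⟨X', π' ≫ π₁, y + (yI).map π' ≫ w ≫ tι _ _, epi_comp _ _, ?_⟩
      simp [hy, g', Preadditive.add_comp, Preadditive.sub_comp, Preadditive.comp_sub]
  intro X g
  obtain ⟨k, hk⟩ := htorp X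
  obtain ⟨X', π, y, hπ, hy⟩ := key k X g (by
    have := congrArg (fun a => (yI).map a ≫ g) hk
    simpa using this)
  exact ⟨X', π, hπ, by rw [← hy, assoc, cokernel.condition, comp_zero]⟩

end Groth.Agent.IndCofLib
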